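import Groth.Agent.EtShriekAdjLib.Linear
import Groth.Agent.EtShriekBcLib.Main
import Groth.Agent.EtShLib.RestrNat
import Groth.Agent.EtShLib.ExtZeroLower
import Groth.Agent.EtShLib.Compactif
import Groth.Agent.DerPlusAdjLib.Main

/-!
# Direct images with proper support along etale morphisms
-/

set_option autoImplicit false
set_option linter.all false
set_option backward.isDefEq.respectTransparency false
set_option backward.isDefEq.respectTransparency.types false
set_option synthInstance.maxHeartbeats 400000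
set_option maxHeartbeats 2000000

universe u

open CategoryTheory CategoryTheory.Limits AlgebraicGeometry Opposite
open Groth.Agent Groth.Agent.EtShLib

attribute [local instance] HasDerivedCategory.standard
attribute [local instance] EtShriekBcLib.pfl_pullMod EtShriekBcLib.pfc_pullMod EtShriekBcLib.hasRpushMod

noncomputable section

namespace EtShriekAdjLib

variable (Λ : Type (u + 1)) [CommRing Λ]

/-- Derived functors on bounded below objects are determined by those on all objects. -/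
theorem nonempty_plus_of_unbounded {X S : Scheme.{u}} {f : X ⟶ S} (c : DEt.Compactification f)
    [PreservesFiniteLimits (EtDl.extZeroMod Λ c.j)] [EtBC.HasRpushMod Λ c.fbar]
    (G : EtModW.Mod Λ X ⥤ EtModW.Mod Λ S) [G.Additive] (RG : EtModD.D Λ X ⥤ EtModD.D Λ S)
    (α : G.mapHomotopyCategory (ComplexShape.up ℤ) ⋙ DerivedCategory.Qh ⟶ DerivedCategory.Qh ⋙ RG)
    [RG.IsRightDerivedFunctor α (HomotopyCategory.quasiIso (EtModW.Mod Λ X) (ComplexShape.up ℤ))]
    (e : EtDlUnbLib.LU (Λ := Λ) c ≅ RG) : Nonempty (EtDl.RshriekPlus Λ c ≅ G.rightDerivedFunctorPlus) := by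
  obtain ⟨l⟩ := EtDlUnbLib.nonempty_plus_LU (Λ := Λ) c
  obtain ⟨p⟩ := EtDlUnbLib.nonempty_plus_iota G RG α
  exact ⟨((Functor.whiskeringRight (DerivedCategory.Plus (EtModW.Mod Λ X)) _ _).obj
      (DerivedCategory.Plus.ι (C := EtModW.Mod Λ S))).preimageIso
    (l ≪≫ Functor.isoWhiskerLeft _ e ≪≫ p.symm)⟩

variable {X S : Scheme.{u}} (f : X ⟶ S) [Etale f] [EtShriek.JCont f]

theorem pfl_extZeroMod : PreservesFiniteLimits (EtDl.extZeroMod Λ f) := by
  obtain ⟨e⟩ := EtDlUnbLib.nonempty_forget_extZero Λ f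
  haveI := EtModPBCLib.forget_pfl Λ X
  haveI := EtModPBCLib.forget_pfl Λ S
  haveI := EtShLib.preservesFiniteLimits_extZero f
  haveI := EtModPBCLib.forget_reflectsIso Λ S
  haveI : PreservesFiniteLimits (EtDl.extZeroMod Λ f ⋙ EtModD.forgetToAb Λ S) := preservesFiniteLimits_of_natIso e
  haveI : ReflectsFiniteLimits (EtModD.forgetToAb Λ S) :=
    ⟨fun J _ _ => reflectsLimitsOfShape_of_reflectsIsomorphisms⟩
  exact preservesFiniteLimits_of_reflects_of_preserves _ (EtModD.forgetToAb Λ S)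

/-- Along an etale morphism the inverse image is restriction. -/
theorem nonempty_restr_pull : Nonempty (EtDl.restrMod Λ f ≅ EtModW.pull Λ f) := by
  haveI : IsIso (restrTheta f) := isIso_restrTheta f
  haveI := fun M => EtModPBCLib.isIso_alpha Λ f M
  let a : EtModD.forgetToAb Λ S ⋙ EtCoh.pull f ≅ EtModW.pull Λ f ⋙ EtModD.forgetToAb Λ X :=
    NatIso.ofComponents (fun M => asIso (EtModPBCLib.alpha Λ f M)) fun φ => EtModPBCLib.alpha_natural Λ f φ
  let r : EtDl.restrMod Λ f ⋙ EtModD.forgetToAb Λ X ≅ EtModD.forgetToAb Λ S ⋙ EtShriek.restrAlong f := Iso.refl _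
  exact nonempty_of_forget (lin_restr f) (lin_pull f)
    (r ≪≫ (Functor.isoWhiskerLeft _ (asIso (restrTheta f) : EtCoh.pull f ≅ EtShriek.restrAlong f)).symm ≪≫ a)

/-- `j_!` followed by a proper push forward along an etale composite. -/
theorem nonempty_extZero_push {P : Scheme.{u}} (j : X ⟶ P) [IsOpenImmersion j] (p : P ⟶ S) [IsProper p]
    (w : j ≫ p = f) : Nonempty (EtShriek.extZero j ⋙ EtCoh.push p ≅ EtShriek.extZero f) := by
  subst w
  haveI := isIso_preι_of_proper p
  obtain ⟨e⟩ := Groth.Agent.S0685.result j p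
  exact ⟨Functor.isoWhiskerRight (extZeroPreIso j ≪≫ (lowerShriekIso j).symm) _ ≪≫
    Functor.isoWhiskerLeft _ ((lowerShriekIso p ≪≫ asIso (preι p)).symm) ≪≫ e.symm ≪≫
    (extZeroPreIso (j ≫ p) ≪≫ (lowerShriekIso (j ≫ p)).symm).symm⟩

theorem nonempty_extZeroMod_push {P : Scheme.{u}} (j : X ⟶ P) [IsOpenImmersion j] (p : P ⟶ S) [IsProper p]
    (w : j ≫ p = f) : Nonempty (EtDl.extZeroMod Λ j ⋙ EtModW.push Λ p ≅ EtDl.extZeroMod Λ f) := by
  obtain ⟨e₁⟩ := EtDlUnbLib.nonempty_forget_extZero Λ j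
  obtain ⟨e₂⟩ := EtDlUnbLib.nonempty_forget_extZero Λ f
  obtain ⟨e⟩ := nonempty_extZero_push f j p w
  let r : EtModD.forgetToAb Λ P ⋙ EtCoh.push p ≅ EtModW.push Λ p ⋙ EtModD.forgetToAb Λ S := Iso.refl _
  exact nonempty_of_forget (lin_comp (lin_extZero j) (lin_push p)) (lin_extZero f)
    (Functor.associator _ _ _ ≪≫ Functor.isoWhiskerLeft _ r.symm ≪≫ (Functor.associator _ _ _).symm ≪≫
      Functor.isoWhiskerRight e₁.symm _ ≪≫ Functor.associator _ _ _ ≪≫ Functor.isoWhiskerLeft _ e ≪≫ e₂)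

omit [Etale f] [EtShriek.JCont f] in
theorem topologicalKrullDim_fiber [Etale f] (s : S) : topologicalKrullDim ↥(f.fiber s) ≤ 0 := by
  haveI : LocallyQuasiFinite f := locallyQuasiFinite_of_etale f
  exact topologicalKrullDim_zero_of_discreteTopology _

variable [CompactSpace ↥X] [CompactSpace ↥S] {n : ℕ} (hn : 0 < n) (hΛ : (n : Λ) = 0)

include hn hΛ

theorem nonempty_LU_etale (c : DEt.Compactification f) [PreservesFiniteLimits (EtDl.extZeroMod Λ c.j)]
    [PreservesFiniteLimits (EtDl.extZeroMod Λ f)] :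
    Nonempty (EtDlUnbLib.LU (Λ := Λ) c ≅ (EtDl.extZeroMod Λ f).mapDerivedCategory) := by
  haveI := c.isProper
  haveI := c.isOpenImmersion
  obtain ⟨e⟩ := nonempty_extZeroMod_push Λ f c.j c.fbar c.fac
  obtain ⟨g⟩ := EtDlUnbLib.nonempty_forget_extZero Λ c.j
  exact EtShriekBcLib.nonempty_exact_comp_derived (EtDl.extZeroMod Λ c.j) (EtModW.push Λ c.fbar) (EtDl.extZeroMod Λ f)
    (EtBC.RpushModD Λ c.fbar) (EtShriekBcLib.uR Λ c.fbar) e fun K =>
      EtModUnbLib.isIso_unit (EtBC.RpushModD Λ c.fbar) (EtShriekBcLib.uR Λ c.fbar)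
        (EtModUnbLib.exacts_push c.fbar hn hΛ) (EtModUnbLib.acy_biprod c.fbar) (EtModUnbLib.acy_iso c.fbar)
        (EtModUnbLib.acy_injective c.fbar) _ fun i q hq =>
          (EtPBCCdLib.isZero_Rpush_extZero c.j c.fbar 0 (fun s => by rw [c.fac]; exact topologicalKrullDim_fiber f s) _
            (EtModUnbLib.isTorsion_of_nsmul_id hn (EtModUnbLib.nsmul_id_forget hΛ (K.X i))) q (by omega)).of_iso
            ((EtCoh.Rpush c.fbar q).mapIso (g.app (K.X i)).symm)

/-- For an etale morphism the inverse image is right adjoint to `Rf_!`. -/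
theorem nonempty_adj_etale (c : DEt.Compactification f) : Nonempty (EtDl.RshriekPlus Λ c ⊣ EtDl.pullPlus Λ f) := by
  haveI := c.isOpenImmersion
  haveI : PreservesFiniteLimits (EtDl.extZeroMod Λ c.j) := EtDlUnbLib.preservesFiniteLimits_extZeroMod Λ c.j
  haveI := pfl_extZeroMod Λ f
  obtain ⟨e⟩ := nonempty_LU_etale Λ f hn hΛ c
  haveI : (EtDl.extZeroMod Λ f).mapDerivedCategory.IsRightDerivedFunctor
      (EtDl.extZeroMod Λ f).mapDerivedCategoryFactorsh.inv
      (HomotopyCategory.quasiIso (EtModW.Mod Λ X) (ComplexShape.up ℤ)) :=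
    Functor.isRightDerivedFunctor_of_inverts _ _ (EtDl.extZeroMod Λ f).mapDerivedCategoryFactorsh
  obtain ⟨p⟩ := nonempty_plus_of_unbounded Λ c (EtDl.extZeroMod Λ f) (EtDl.extZeroMod Λ f).mapDerivedCategory
    (EtDl.extZeroMod Λ f).mapDerivedCategoryFactorsh.inv e
  obtain ⟨r⟩ := nonempty_restr_pull Λ f
  obtain ⟨a⟩ := DerPlusAdjLib.nonempty_adj ((EtDl.extZeroModAdj Λ f).ofNatIsoRight r)
  exact ⟨a.ofNatIsoLeft p.symm⟩

end EtShriekAdjLib

end
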