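import Groth.Agent.EtShriekBcLib.Main
import Groth.Agent.EtShriekAdjLib.Etale
import Groth.Agent.EtShLib.PushStalk
import Groth.Agent.EtShLib.SetClosed
import Groth.Agent.EtShLib.RestrPull
import Groth.Agent.EtBcKilledLib.Comp
import Groth.Agent.DerPlusAdjLib.Main

/-!
# Sections with support in a closed subscheme
-/

set_option autoImplicit false
set_option linter.all false
set_option backward.isDefEq.respectTransparency false
set_option backward.isDefEq.respectTransparency.types false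
set_option synthInstance.maxHeartbeats 400000
set_option maxHeartbeats 2000000

universe u

open CategoryTheory CategoryTheory.Limits AlgebraicGeometry Opposite
open Groth.Agent Groth.Agent.EtShLib

attribute [local instance] HasDerivedCategory.standard
attribute [local instance] EtShriekBcLib.pfl_pullMod EtShriekBcLib.pfc_pullMod EtShriekBcLib.hasRpushMod

noncomputable section

namespace EtShriekAdjLib

variable (Λ : Type (u + 1)) [CommRing Λ] {Z X U : Scheme.{u}} (i : Z ⟶ X) [IsClosedImmersion i] (j : U ⟶ X)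
  [IsOpenImmersion j]

theorem isIso_counit_closed (A : EtModW.Mod Λ Z) : IsIso ((EtDl.pullPushModAdj Λ i).counit.app A) := by
  haveI := EtModPBCLib.forget_reflectsIso Λ Z
  let N := (EtModW.push Λ i).obj A
  haveI := EtModPBCLib.isIso_alpha Λ i N
  haveI := counit_isIso_of_closedImmersion i ((EtModD.forgetToAb Λ Z).obj A)
  have h : EtModPBCLib.alpha Λ i N ≫ (EtModD.forgetToAb Λ Z).map ((EtDl.pullPushModAdj Λ i).counit.app A) =
      (EtCoh.pullPushAdj i).counit.app ((EtModD.forgetToAb Λ Z).obj A) := by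
    apply ((EtCoh.pullPushAdj i).homEquiv _ _).injective
    rw [Adjunction.homEquiv_unit, Adjunction.homEquiv_unit, Functor.map_comp]
    erw [← Category.assoc, EtModPBCLib.unit_alpha Λ i N]
    refine Eq.trans ?_ ((EtCoh.pullPushAdj i).right_triangle_components ((EtModD.forgetToAb Λ Z).obj A)).symm
    have h2 := congrArg (EtModD.forgetToAb Λ X).map ((EtDl.pullPushModAdj Λ i).right_triangle_components A)
    rw [Functor.map_comp, CategoryTheory.Functor.map_id] at h2
    exact h2
  haveI : IsIso (EtModPBCLib.alpha Λ i N ≫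
      (EtModD.forgetToAb Λ Z).map ((EtDl.pullPushModAdj Λ i).counit.app A)) := h ▸ inferInstance
  haveI : IsIso ((EtModD.forgetToAb Λ Z).map ((EtDl.pullPushModAdj Λ i).counit.app A)) :=
    IsIso.of_isIso_comp_left (EtModPBCLib.alpha Λ i N) _
  exact isIso_of_reflects_iso _ (EtModD.forgetToAb Λ Z)

theorem isZero_of_forget {Y : Scheme.{u}} (M : EtModW.Mod Λ Y) (h : IsZero ((EtModD.forgetToAb Λ Y).obj M)) :
    IsZero M := by
  haveI := EtModUnbLib.forget_additive Λ Y
  haveI := EtModUnbLib.forget_faithful Λ Y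
  rw [IsZero.iff_id_eq_zero]
  apply (EtModD.forgetToAb Λ Y).map_injective
  rw [Functor.map_zero]
  exact h.eq_of_src _ _

variable (hij : Set.range j.base = (Set.range i.base)ᶜ)

include hij

theorem isZero_pull_push (A : EtModW.Mod Λ Z) : IsZero ((EtModW.pull Λ j).obj ((EtModW.push Λ i).obj A)) := by
  refine isZero_of_forget Λ _ ?_
  haveI := EtModPBCLib.isIso_alpha Λ j ((EtModW.push Λ i).obj A)
  let F := (EtCoh.pull j).obj ((EtCoh.push i).obj ((EtModD.forgetToAb Λ Z).obj A))
  have hz : IsZero F := by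
    let K : EtCoh.Ab U := kernel (𝟙 F)
    have hK : IsZero K := isZero_kernel_of_mono _
    haveI : IsIso (0 : K ⟶ F) := isIso_of_stalks _ fun Ω _ _ ζ => by
      have hout : (ζ ≫ j).base default ∉ Set.range i.base :=
        (hij.le ⟨ζ.base default, rfl⟩ : j.base (ζ.base default) ∈ (Set.range i.base)ᶜ)
      haveI := subsingleton_push_stalk i ((EtModD.forgetToAb Λ Z).obj A) (ζ ≫ j) hout
      haveI : Subsingleton ((stk (A := AddCommGrpCat.{u + 1}) ζ).obj F) :=
        ((stalkPull j ζ AddCommGrpCat.{u + 1}).app _).symm.addCommGroupIsoToAddEquiv.toEquiv.subsingleton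
      haveI : Subsingleton ((stk (A := AddCommGrpCat.{u + 1}) ζ).obj K) :=
        AddCommGrpCat.subsingleton_of_isZero ((stk (A := AddCommGrpCat.{u + 1}) ζ).map_isZero hK)
      exact (ConcreteCategory.isIso_iff_bijective _).2
        ⟨fun a b _ => Subsingleton.elim a b, fun b => ⟨0, Subsingleton.elim _ _⟩⟩
    exact hK.of_iso (asIso (0 : K ⟶ F)).symm
  exact hz.of_iso (asIso (EtModPBCLib.alpha Λ j ((EtModW.push Λ i).obj A))).symm

theorem isIso_unit_supported (M : EtModW.Mod Λ X) (h : IsZero ((EtModW.pull Λ j).obj M)) :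
    IsIso ((EtDl.pullPushModAdj Λ i).unit.app M) := by
  haveI := EtModPBCLib.forget_reflectsIso Λ X
  let F := (EtModD.forgetToAb Λ X).obj M
  haveI := EtModPBCLib.isIso_alpha Λ j M
  haveI := EtModUnbLib.forget_additive Λ U
  have hF : IsZero ((EtCoh.pull j).obj F) :=
    ((EtModD.forgetToAb Λ U).map_isZero h).of_iso (asIso (EtModPBCLib.alpha Λ j M))
  haveI : IsIso ((EtCoh.pullPushAdj i).unit.app F) := isIso_of_stalks _ fun Ω _ _ ξ => by
    by_cases hξ : ξ.base default ∈ Set.range i.base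
    · obtain ⟨ζ, rfl⟩ := exists_factor i ξ hξ
      exact isIso_unit_stalk_closed i F ζ
    · obtain ⟨ζ, rfl⟩ := exists_factor j ξ (hij.ge hξ)
      haveI := subsingleton_push_stalk i ((EtCoh.pull i).obj F) (ζ ≫ j) hξ
      haveI : Subsingleton ((stk (A := AddCommGrpCat.{u + 1}) ζ).obj ((EtCoh.pull j).obj F)) :=
        AddCommGrpCat.subsingleton_of_isZero ((stk (A := AddCommGrpCat.{u + 1}) ζ).map_isZero hF)
      haveI : Subsingleton ((stk (A := AddCommGrpCat.{u + 1}) (ζ ≫ j)).obj ((𝟭 (EtCoh.Ab X)).obj F)) :=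
        @Equiv.subsingleton _ _ ((stalkPull j ζ AddCommGrpCat.{u + 1}).app F).addCommGroupIsoToAddEquiv.toEquiv
          ‹Subsingleton ((stk (A := AddCommGrpCat.{u + 1}) ζ).obj ((EtCoh.pull j).obj F))›
      exact (ConcreteCategory.isIso_iff_bijective _).2 ⟨fun a b _ => Subsingleton.elim a b, fun b => ⟨0,
        Subsingleton.elim (α := ((stk (A := AddCommGrpCat.{u + 1}) (ζ ≫ j)).obj
          ((EtCoh.push i).obj ((EtCoh.pull i).obj F)) : Type (u + 1))) _ _⟩⟩
  haveI := EtModPBCLib.isIso_alpha Λ i M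
  haveI : IsIso ((EtModD.forgetToAb Λ X).map ((EtSix.pullPushModAdj Λ i).unit.app M)) :=
    EtModPBCLib.unit_alpha Λ i M ▸ inferInstance
  exact isIso_of_reflects_iso _ (EtModD.forgetToAb Λ X)

omit hij in
theorem isZero_pull_secSupp (M : EtModW.Mod Λ X) :
    IsZero ((EtModW.pull Λ j).obj ((EtDl.secSuppMod Λ j).obj M)) := by
  show IsZero ((EtModW.pull Λ j).obj (kernel (EtDl.unitMod Λ j M)))
  haveI hm : Mono ((EtModW.pull Λ j).map (EtDl.unitMod Λ j M)) :=
    @IsSplitMono.mono _ _ _ _ _ ⟨⟨⟨_, (EtDl.pullPushModAdj Λ j).left_triangle_components M⟩⟩⟩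
  haveI : Mono ((EtModW.pull Λ j).map (kernel.ι (EtDl.unitMod Λ j M))) :=
    haveI : PreservesFiniteLimits (EtModW.pull Λ j) := EtShriekBcLib.pfl_pullMod Λ j
    haveI : PreservesLimitsOfShape WalkingCospan (EtModW.pull Λ j) := PreservesFiniteLimits.preservesFiniteLimits _
    haveI : (EtModW.pull Λ j).PreservesMonomorphisms := inferInstance
    Functor.map_mono _ _
  refine IsZero.of_mono_eq_zero ((EtModW.pull Λ j).map (kernel.ι (EtDl.unitMod Λ j M))) ?_
  apply (@cancel_mono _ _ _ _ _ ((EtModW.pull Λ j).map (EtDl.unitMod Λ j M)) hm _ _).1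
  refine ((Functor.map_comp _ _ _).symm.trans (congrArg (EtModW.pull Λ j).map
    (kernel.condition (EtDl.unitMod Λ j M)))).trans ?_
  exact ((EtModW.pull Λ j).map_zero _ _).trans zero_comp.symm

omit hij in
theorem secSupp_map_ι {M N : EtModW.Mod Λ X} (φ : M ⟶ N) :
    (EtDl.secSuppMod Λ j).map φ ≫ kernel.ι (EtDl.unitMod Λ j N) = kernel.ι (EtDl.unitMod Λ j M) ≫ φ :=
  kernel.lift_ι _ _ _

/-- Direct images from the closed subscheme and sections with support in it. -/
theorem nonempty_adj_secSupp :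
    Nonempty (EtModW.push Λ i ⊣ EtDl.secSuppMod Λ j ⋙ EtModW.pull Λ i) := by
  let a := EtDl.pullPushModAdj Λ i
  let Γ := EtDl.secSuppMod Λ j
  haveI := fun A => isIso_counit_closed Λ i A
  haveI := fun M => isIso_unit_supported Λ i j hij (Γ.obj M) (isZero_pull_secSupp Λ j M)
  have hz : ∀ {A : EtModW.Mod Λ Z} {M : EtModW.Mod Λ X} (φ : (EtModW.push Λ i).obj A ⟶ M),
      φ ≫ EtDl.unitMod Λ j M = 0 := fun {A M} φ => by
    apply ((EtDl.pullPushModAdj Λ j).homEquiv _ _).symm.injective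
    exact (isZero_pull_push Λ i j hij A).eq_of_src _ _
  let e : ∀ (A : EtModW.Mod Λ Z) (M : EtModW.Mod Λ X),
      ((EtModW.push Λ i).obj A ⟶ M) ≃ (A ⟶ (EtModW.pull Λ i).obj (Γ.obj M)) := fun A M =>
    { toFun := fun φ => inv (a.counit.app A) ≫ (EtModW.pull Λ i).map (kernel.lift _ φ (hz φ))
      invFun := fun ψ => (EtModW.push Λ i).map ψ ≫ inv (a.unit.app (Γ.obj M)) ≫ kernel.ι (EtDl.unitMod Λ j M)
      left_inv := fun φ => by
        dsimp only
        have h1 : inv (a.counit.app A) = inv (a.counit.app A) := rfl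
        have h2 : (EtModW.push Λ i).map (inv (a.counit.app A)) = a.unit.app ((EtModW.push Λ i).obj A) := by
          rw [Functor.map_inv]
          exact IsIso.inv_eq_of_inv_hom_id (a.right_triangle_components A)
        have h3 := a.unit.naturality (kernel.lift _ φ (hz φ))
        dsimp only [Functor.id_obj, Functor.id_map, Functor.comp_obj, Functor.comp_map] at h3
        rw [Functor.map_comp, h2, Category.assoc, ← reassoc_of% h3]
        erw [IsIso.hom_inv_id_assoc]
        exact kernel.lift_ι _ _ _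
      right_inv := fun ψ => by
        dsimp only
        rw [IsIso.inv_comp_eq]
        have h1 : kernel.lift _ _ (hz ((EtModW.push Λ i).map ψ ≫ inv (a.unit.app (Γ.obj M)) ≫
            kernel.ι (EtDl.unitMod Λ j M))) = (EtModW.push Λ i).map ψ ≫ inv (a.unit.app (Γ.obj M)) := by
          apply (cancel_mono (kernel.ι (EtDl.unitMod Λ j M))).1
          rw [kernel.lift_ι, Category.assoc]
        have h2 : (EtModW.pull Λ i).map (inv (a.unit.app (Γ.obj M))) =
            a.counit.app ((EtModW.pull Λ i).obj (Γ.obj M)) := by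
          rw [Functor.map_inv]
          exact IsIso.inv_eq_of_hom_inv_id (a.left_triangle_components _)
        rw [h1, Functor.map_comp, h2]
        exact a.counit.naturality ψ }
  refine ⟨Adjunction.mkOfHomEquiv
    { homEquiv := e
      homEquiv_naturality_left_symm := fun {A' A M} f g => ?_
      homEquiv_naturality_right := fun {A M M'} φ g => ?_ }⟩
  · show (EtModW.push Λ i).map (f ≫ g) ≫ _ = (EtModW.push Λ i).map f ≫ (EtModW.push Λ i).map g ≫ _
    rw [Functor.map_comp, Category.assoc]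
  · show inv (a.counit.app A) ≫ (EtModW.pull Λ i).map (kernel.lift _ (φ ≫ g) (hz _)) =
      (inv (a.counit.app A) ≫ (EtModW.pull Λ i).map (kernel.lift _ φ (hz φ))) ≫ (EtModW.pull Λ i).map (Γ.map g)
    rw [Category.assoc, ← Functor.map_comp]
    congr 2
    apply (cancel_mono (kernel.ι (EtDl.unitMod Λ j M'))).1
    rw [kernel.lift_ι, Category.assoc]
    erw [secSupp_map_ι]
    rw [kernel.lift_ι_assoc]

omit hij in
theorem pfc_push_closed : PreservesFiniteColimits (EtModW.push Λ i) := by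
  haveI := EtBcKilledLib.preservesFiniteColimits_push_integral i
  haveI := EtModPBCLib.forget_pfc Λ Z
  haveI := EtModPBCLib.forget_pfc Λ X
  haveI := EtModPBCLib.forget_reflectsIso Λ X
  haveI : PreservesFiniteColimits (EtModW.push Λ i ⋙ EtModD.forgetToAb Λ X) :=
    preservesFiniteColimits_of_natIso (Iso.refl _ : EtModD.forgetToAb Λ Z ⋙ EtCoh.push i ≅
      EtModW.push Λ i ⋙ EtModD.forgetToAb Λ X)
  haveI : ReflectsFiniteColimits (EtModD.forgetToAb Λ X) :=
    { reflects := fun J _ _ => reflectsColimitsOfShape_of_reflectsIsomorphisms }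
  exact preservesFiniteColimits_of_reflects_of_preserves _ (EtModD.forgetToAb Λ X)

omit hij in
theorem pfl_push (f : Z ⟶ X) : PreservesFiniteLimits (EtModW.push Λ f) :=
  haveI : PreservesLimitsOfSize.{0, 0} (EtModW.push Λ f) := (EtDl.pullPushModAdj Λ f).rightAdjoint_preservesLimits
  PreservesLimitsOfSize.preservesFiniteLimits _

omit hij in
theorem nonempty_plus_comp {B : Scheme.{u}} (G : EtModW.Mod Λ X ⥤ EtModW.Mod Λ X) [G.Additive]
    (f : B ⟶ X) : Nonempty ((G ⋙ EtModW.pull Λ f).rightDerivedFunctorPlus ≅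
      G.rightDerivedFunctorPlus ⋙ EtDl.pullPlus Λ f) := by
  let W := HomotopyCategory.Plus.quasiIso (EtModW.Mod Λ X)
  haveI := DerPlusAdjLib.isIso_unit_of_exact (L := EtModW.pull Λ f)
  let γ : (G ⋙ EtModW.pull Λ f).mapHomotopyCategoryPlus ⋙ DerivedCategory.Plus.Qh ⟶
      DerivedCategory.Plus.Qh ⋙ (G.rightDerivedFunctorPlus ⋙ EtDl.pullPlus Λ f) :=
    Functor.whiskerRight (Functor.mapHomotopyCategoryPlusCompIso (Iso.refl (G ⋙ EtModW.pull Λ f))).inv _ ≫
      (Functor.associator _ _ _).hom ≫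
      Functor.whiskerLeft G.mapHomotopyCategoryPlus (EtModW.pull Λ f).rightDerivedFunctorPlusUnit ≫
      (Functor.associator _ _ _).inv ≫ Functor.whiskerRight G.rightDerivedFunctorPlusUnit (EtDl.pullPlus Λ f) ≫
      (Functor.associator _ _ _).hom
  haveI : (G.rightDerivedFunctorPlus ⋙ EtDl.pullPlus Λ f).IsRightDerivedFunctor γ W :=
    (HomotopyCategory.Plus.localizerMorphism_derives _).isRightDerivedFunctor_of_isIso _ fun Y => by
      simp only [γ, NatTrans.comp_app, Functor.whiskerRight_app, Functor.whiskerLeft_app,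
        Functor.associator_hom_app, Functor.associator_inv_app, Category.id_comp, Category.comp_id]
      refine @IsIso.comp_isIso _ _ _ _ _ _ _ inferInstance (@IsIso.comp_isIso _ _ _ _ _ _ _
        (NatIso.isIso_app_of_isIso (EtModW.pull Λ f).rightDerivedFunctorPlusUnit _) ?_)
      exact Functor.map_isIso _ _
  exact ⟨Functor.rightDerivedUnique _ _ (G ⋙ EtModW.pull Λ f).rightDerivedFunctorPlusUnit γ W⟩

omit hij in
theorem nonempty_extZero_id : Nonempty (EtDl.extZeroMod Λ (𝟙 Z) ≅ 𝟭 (EtModW.Mod Λ Z)) := by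
  obtain ⟨r⟩ := nonempty_restr_pull Λ (𝟙 Z)
  exact ⟨Adjunction.leftAdjointUniq (EtDl.extZeroModAdj Λ (𝟙 Z))
    ((Adjunction.id (C := EtModW.Mod Λ Z)).ofNatIsoRight (r ≪≫ EtShriekBcLib.pullIdMod Λ Z).symm)⟩

variable [CompactSpace ↥Z] [QuasiSeparatedSpace ↥Z] [CompactSpace ↥X] [QuasiSeparatedSpace ↥X]
  {n : ℕ} (hn : 0 < n) (hΛ : (n : Λ) = 0)

include hn hΛ

theorem nonempty_adj_closed (c : DEt.Compactification i) :
    Nonempty (EtDl.RshriekPlus Λ c ⊣ EtDl.secSuppPlus Λ j ⋙ EtDl.pullPlus Λ i) := by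
  haveI := c.isOpenImmersion
  haveI : PreservesFiniteLimits (EtDl.extZeroMod Λ c.j) := EtDlUnbLib.preservesFiniteLimits_extZeroMod Λ c.j
  let c₀ : DEt.Compactification i := ⟨Z, 𝟙 Z, i, inferInstance, inferInstance, Category.id_comp i⟩
  haveI : PreservesFiniteLimits (EtDl.extZeroMod Λ (𝟙 Z)) := EtDlUnbLib.preservesFiniteLimits_extZeroMod Λ (𝟙 Z)
  obtain ⟨e₁⟩ := EtShriekBcLib.nonempty_indep Λ hn hΛ c c₀
  obtain ⟨z⟩ := nonempty_extZero_id Λ (Z := Z)
  obtain ⟨e₂⟩ := EtShriekBcLib.nonempty_lift (EtDl.extZeroMod Λ (𝟙 Z)).mapDerivedCategory (𝟭 (EtModD.D Λ Z))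
    ((EtDl.extZeroMod Λ (𝟙 Z)).mapDerivedCategoryFactors ≪≫ Functor.isoWhiskerRight
      (NatIso.ofComponents (fun K => HomologicalComplex.Hom.isoOfComponents (fun m => z.app (K.X m))
        fun _ _ _ => (z.hom.naturality _).symm) (fun φ => HomologicalComplex.hom_ext _ _ fun m => z.hom.naturality (φ.f m)) :
        (EtDl.extZeroMod Λ (𝟙 Z)).mapHomologicalComplex (ComplexShape.up ℤ) ≅ 𝟭 _) _ ≪≫
      Functor.leftUnitor _ ≪≫ (Functor.rightUnitor _).symm)
  obtain ⟨p⟩ := nonempty_plus_of_unbounded Λ c (EtModW.push Λ i) (EtBC.RpushModD Λ i) (EtShriekBcLib.uR Λ i)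
    (e₁ ≪≫ Functor.isoWhiskerRight e₂ _ ≪≫ Functor.leftUnitor _)
  obtain ⟨adj⟩ := nonempty_adj_secSupp Λ i j hij
  haveI := pfc_push_closed Λ i
  haveI := pfl_push Λ i
  obtain ⟨a⟩ := DerPlusAdjLib.nonempty_adj adj
  obtain ⟨q⟩ := nonempty_plus_comp Λ (EtDl.secSuppMod Λ j) i
  exact ⟨(a.ofNatIsoLeft p.symm).ofNatIsoRight q⟩

end EtShriekAdjLib

end
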