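import Groth.Agent.EtModPBCLib.Forget
import Groth.Prelude.Def_EtDl

/-!
# Natural isomorphisms of linear functors between sheaves of modules
-/

set_option autoImplicit false
set_option linter.all false
set_option backward.isDefEq.respectTransparency false
set_option backward.isDefEq.respectTransparency.types false
set_option synthInstance.maxHeartbeats 400000
set_option maxHeartbeats 1000000

universe u

open CategoryTheory CategoryTheory.Limits AlgebraicGeometry Opposite

noncomputable section

namespace EtShriekAdjLib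

variable {Λ : Type (u + 1)} [CommRing Λ] {X Y Z : Scheme.{u}}

/-- Multiplication by a scalar. -/
def smulHom (a : Λ) (M : EtModW.Mod Λ X) : M ⟶ M :=
  ⟨{ app := fun U => ModuleCat.ofHom (a • LinearMap.id)
     naturality := fun U V i => by
       ext s
       exact (LinearMap.map_smul (M.obj.map i).hom a s).symm }⟩

theorem smulHom_natural (a : Λ) {M N : EtModW.Mod Λ X} (φ : M ⟶ N) :
    φ ≫ smulHom a N = smulHom a M ≫ φ := by
  refine Sheaf.hom_ext (NatTrans.ext (funext fun U => ?_))
  ext s
  exact (LinearMap.map_smul (φ.hom.app U).hom a s).symm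

/-- A functor compatible with multiplication by scalars. -/
def Lin (F : EtModW.Mod Λ X ⥤ EtModW.Mod Λ Y) : Prop :=
  ∀ (a : Λ) (M : EtModW.Mod Λ X), F.map (smulHom a M) = smulHom a (F.obj M)

theorem lin_comp {F : EtModW.Mod Λ X ⥤ EtModW.Mod Λ Y} {G : EtModW.Mod Λ Y ⥤ EtModW.Mod Λ Z} (hF : Lin F)
    (hG : Lin G) : Lin (F ⋙ G) := fun a M => by
  show G.map (F.map _) = _
  rw [hF, hG]
  rfl

theorem lin_of_adj {L : EtModW.Mod Λ X ⥤ EtModW.Mod Λ Y} {R : EtModW.Mod Λ Y ⥤ EtModW.Mod Λ X} (adj : L ⊣ R)
    (hR : Lin R) : Lin L := fun a M => by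
  apply (adj.homEquiv _ _).injective
  rw [Adjunction.homEquiv_unit, Adjunction.homEquiv_unit, hR]
  exact (adj.unit.naturality _).symm.trans (smulHom_natural a (adj.unit.app M)).symm

theorem lin_push (f : X ⟶ Y) : Lin (EtModW.push Λ f) := fun a M => rfl

theorem lin_pull (f : X ⟶ Y) : Lin (EtModW.pull Λ f) := lin_of_adj (EtDl.pullPushModAdj Λ f) (lin_push f)

theorem lin_restr (j : X ⟶ Y) [Etale j] [EtShriek.JCont j] : Lin (EtDl.restrMod Λ j) := fun a M => rfl

theorem lin_extZero (j : X ⟶ Y) [Etale j] [EtShriek.JCont j] : Lin (EtDl.extZeroMod Λ j) :=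
  lin_of_adj (EtDl.extZeroModAdj Λ j) (lin_restr j)

/-- An isomorphism of the underlying abelian sheaves, natural in the module, is an isomorphism of modules. -/
theorem nonempty_of_forget {F₁ F₂ : EtModW.Mod Λ X ⥤ EtModW.Mod Λ Y} (h₁ : Lin F₁) (h₂ : Lin F₂)
    (θ : F₁ ⋙ EtModD.forgetToAb Λ Y ≅ F₂ ⋙ EtModD.forgetToAb Λ Y) : Nonempty (F₁ ≅ F₂) := by
  let α : F₁ ⟶ F₂ :=
    { app := fun M => ⟨{
        app := fun U => ModuleCat.ofHom
          { toFun := fun s => (θ.hom.app M).hom.app U s
            map_add' := fun s t => map_add ((θ.hom.app M).hom.app U).hom s t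
            map_smul' := fun a s => by
              have h := congrArg (fun φ : (F₁ ⋙ EtModD.forgetToAb Λ Y).obj M ⟶ (F₂ ⋙ EtModD.forgetToAb Λ Y).obj M =>
                φ.hom.app U s) (θ.hom.naturality (smulHom a M))
              dsimp only [Functor.comp_map] at h
              rw [h₁ a M, h₂ a M] at h
              exact h }
        naturality := fun U V i => by
          ext s
          exact NatTrans.naturality_apply (θ.hom.app M).hom i s }⟩
      naturality := fun M N φ => by
        refine Sheaf.hom_ext (NatTrans.ext (funext fun U => ?_))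
        ext s
        exact congrArg (fun ψ : (F₁ ⋙ EtModD.forgetToAb Λ Y).obj M ⟶ (F₂ ⋙ EtModD.forgetToAb Λ Y).obj N =>
          ψ.hom.app U s) (θ.hom.naturality φ) }
  haveI := EtModPBCLib.forget_reflectsIso Λ Y
  haveI : ∀ M, IsIso (α.app M) := fun M => by
    haveI : IsIso ((EtModD.forgetToAb Λ Y).map (α.app M)) := by
      show IsIso (θ.hom.app M)
      infer_instance
    exact isIso_of_reflects_iso _ (EtModD.forgetToAb Λ Y)
  haveI := NatIso.isIso_of_isIso_app α
  exact ⟨asIso α⟩

end EtShriekAdjLib

end
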